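import Mathlib

/-!
# Jouanolou's trick: the algebra

For a commutative ring `A` and a finite family `f : σ → A`, the ring
`R = A[y_i, z] / (∑ f_i y_i - 1)`.  After base change to any `A`-algebra `B` in which the `f_i`
generate the unit ideal it becomes a polynomial ring in `σ` variables.
-/

set_option autoImplicit false
universe u v w

open MvPolynomial

namespace Groth.Agent.Lib.Helper5.Jou

variable {A : Type u} [CommRing A] {σ : Type v} [Fintype σ] (f : σ → A)

/-- The relation `∑ f_i y_i - 1`. -/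
noncomputable def rel : MvPolynomial (Option σ) A := ∑ i, C (f i) * X (some i) - 1

/-- The Jouanolou ring. -/
abbrev R : Type (max u v) := MvPolynomial (Option σ) A ⧸ Ideal.span {rel f}

/-- The generators `y_i`. -/
noncomputable def y (i : σ) : R f := Ideal.Quotient.mk _ (X (some i))

/-- The generator `z`. -/
noncomputable def z : R f := Ideal.Quotient.mk _ (X none)

lemma algebraMap_eq (x : A) : algebraMap A (R f) x = Ideal.Quotient.mk _ (C x) := rfl

lemma sum_y : ∑ i, algebraMap A (R f) (f i) * y f i = 1 := by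
  have h : Ideal.Quotient.mk (Ideal.span {rel f}) (rel f) = 0 :=
    Ideal.Quotient.eq_zero_iff_mem.mpr (Ideal.subset_span rfl)
  rw [rel, map_sub, map_sum, map_one, sub_eq_zero] at h
  refine Eq.trans ?_ h
  refine Finset.sum_congr rfl fun i _ => ?_
  rw [map_mul]; rfl

/-- Ring homs out of the Jouanolou ring are determined by their values on `A`, `y_i`, `z`. -/
lemma hom_ext {G : Type w} [CommRing G] (u v : R f →+* G)
    (hA : ∀ x : A, u (algebraMap A (R f) x) = v (algebraMap A (R f) x))
    (hy : ∀ i, u (y f i) = v (y f i)) (hz : u (z f) = v (z f)) : u = v := by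
  apply Ideal.Quotient.ringHom_ext
  apply MvPolynomial.ringHom_ext
  · intro x
    exact hA x
  · intro o
    cases o with
    | none => exact hz
    | some i => exact hy i

section Psi

variable {B : Type u} [CommRing B] (φ : A →+* B) (a : σ → B)
  {G : Type w} [CommRing G] (π : B →+* G) (t : σ → G)

/-- Values of the generators under `psi`. -/
noncomputable def psiVal : Option σ → G := fun o =>
  o.elim (∑ j, π (φ (f j)) * t j) (fun i => π (a i) + t i - (∑ j, π (φ (f j)) * t j) * π (a i))

variable (ha : ∑ i, φ (f i) * a i = 1)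

include ha in
lemma psi_rel : eval₂Hom (π.comp φ) (psiVal f φ a π t) (rel f) = 0 := by
  have h1 : ∑ i, π (φ (f i)) * π (a i) = 1 := by
    rw [← map_one π, ← ha, map_sum]
    exact Finset.sum_congr rfl fun i _ => (map_mul _ _ _).symm
  rw [rel, map_sub, map_sum, map_one]
  simp only [map_mul, eval₂Hom_C, eval₂Hom_X', psiVal, Option.elim_some, RingHom.comp_apply]
  set s := ∑ j, π (φ (f j)) * t j with hs
  have : ∑ x, π (φ (f x)) * (π (a x) + t x - s * π (a x))
      = ∑ x, π (φ (f x)) * π (a x) + ∑ x, π (φ (f x)) * t x - s * ∑ x, π (φ (f x)) * π (a x) := by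
    rw [Finset.mul_sum, ← Finset.sum_add_distrib, ← Finset.sum_sub_distrib]
    refine Finset.sum_congr rfl fun i _ => ?_
    ring
  rw [this, h1, ← hs]
  ring

/-- The ring hom `R → G` with `y_i ↦ π a_i + t_i - (∑ π g_j t_j) π a_i`, `z ↦ ∑ π g_j t_j`. -/
noncomputable def psi : R f →+* G :=
  Ideal.Quotient.lift _ (eval₂Hom (π.comp φ) (psiVal f φ a π t)) (by
    intro x hx
    rw [Ideal.mem_span_singleton] at hx
    obtain ⟨c, rfl⟩ := hx
    rw [map_mul, psi_rel f φ a π t ha, zero_mul])

lemma psi_algebraMap (x : A) : psi f φ a π t ha (algebraMap A (R f) x) = π (φ x) := by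
  rw [algebraMap_eq, psi, Ideal.Quotient.lift_mk, eval₂Hom_C]; rfl

lemma psi_y (i : σ) : psi f φ a π t ha (y f i)
    = π (a i) + t i - (∑ j, π (φ (f j)) * t j) * π (a i) := by
  rw [y, psi, Ideal.Quotient.lift_mk, eval₂Hom_X']; rfl

lemma psi_z : psi f φ a π t ha (z f) = ∑ j, π (φ (f j)) * t j := by
  rw [z, psi, Ideal.Quotient.lift_mk, eval₂Hom_X']; rfl

end Psi

section Back

variable {B : Type u} [CommRing B] (φ : A →+* B) (a : σ → B)
  {G : Type w} [CommRing G] (ρ : R f →+* G) (β : B →+* G)
  (hρβ : ∀ x : A, ρ (algebraMap A (R f) x) = β (φ x))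

/-- The coordinates `t_i = y_i - a_i + z a_i`. -/
noncomputable def tVal (i : σ) : G := ρ (y f i) - β (a i) + ρ (z f) * β (a i)

include hρβ in
lemma sum_tVal (ha : ∑ i, φ (f i) * a i = 1) :
    ∑ j, β (φ (f j)) * tVal f a ρ β j = ρ (z f) := by
  have h1 : ∑ i, β (φ (f i)) * β (a i) = 1 := by
    rw [← map_one β, ← ha, map_sum]
    exact Finset.sum_congr rfl fun i _ => (map_mul _ _ _).symm
  have h2 : ∑ i, β (φ (f i)) * ρ (y f i) = 1 := by
    rw [← map_one ρ, ← sum_y f, map_sum]
    refine Finset.sum_congr rfl fun i _ => ?_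
    rw [map_mul, hρβ]
  have : ∑ j, β (φ (f j)) * tVal f a ρ β j
      = ∑ j, β (φ (f j)) * ρ (y f j) - ∑ j, β (φ (f j)) * β (a j)
        + ρ (z f) * ∑ j, β (φ (f j)) * β (a j) := by
    rw [Finset.mul_sum, ← Finset.sum_sub_distrib, ← Finset.sum_add_distrib]
    refine Finset.sum_congr rfl fun i _ => ?_
    rw [tVal]; ring
  rw [this, h1, h2]; ring

include hρβ in
/-- `psi` with the coordinates `tVal` recovers `ρ`. -/
lemma psi_tVal (ha : ∑ i, φ (f i) * a i = 1) :
    psi f φ a β (tVal f a ρ β) ha = ρ := by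
  apply hom_ext
  · intro x
    rw [psi_algebraMap, hρβ]
  · intro i
    rw [psi_y, sum_tVal f φ a ρ β hρβ ha, tVal]; ring
  · rw [psi_z, sum_tVal f φ a ρ β hρβ ha]

/-- `tVal` with `psi` recovers the coordinates. -/
lemma tVal_psi (π : B →+* G) (t : σ → G) (ha : ∑ i, φ (f i) * a i = 1) (i : σ) :
    tVal f a (psi f φ a π t ha) π i = t i := by
  rw [tVal, psi_y, psi_z]; ring

end Back

section Nat

variable {B : Type u} [CommRing B] (φ : A →+* B) (a : σ → B)
  {G : Type w} [CommRing G] {G' : Type w} [CommRing G'] (κ : G →+* G')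

lemma comp_psi (π : B →+* G) (t : σ → G) (ha : ∑ i, φ (f i) * a i = 1) :
    κ.comp (psi f φ a π t ha) = psi f φ a (κ.comp π) (fun i => κ (t i)) ha := by
  apply hom_ext
  · intro x
    rw [RingHom.comp_apply, psi_algebraMap, psi_algebraMap, RingHom.comp_apply]
  · intro i
    rw [RingHom.comp_apply, psi_y, psi_y]
    simp only [map_sub, map_add, map_mul, map_sum, RingHom.comp_apply]
  · rw [RingHom.comp_apply, psi_z, psi_z]
    simp only [map_mul, map_sum, RingHom.comp_apply]

lemma map_tVal (ρ : R f →+* G) (β : B →+* G) (i : σ) :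
    κ (tVal f a ρ β i) = tVal f a (κ.comp ρ) (κ.comp β) i := by
  simp only [tVal, map_sub, map_add, map_mul, RingHom.comp_apply]

end Nat

/-- A prime of `R` cannot contain all the `f_i`. -/
lemma exists_not_mem (P : Ideal (R f)) (hP : P ≠ ⊤) : ∃ i, algebraMap A (R f) (f i) ∉ P := by
  by_contra h
  push Not at h
  apply hP
  rw [Ideal.eq_top_iff_one, ← sum_y f]
  exact Ideal.sum_mem _ fun i _ => Ideal.mul_mem_right _ _ (h i)

end Groth.Agent.Lib.Helper5.Jou
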