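import Mathlib
import Groth.Agent.Lib.Helper5.Jou.Alg

/-!
# Jouanolou's trick for quasi-affine schemes
-/

set_option autoImplicit false
universe u

open CategoryTheory AlgebraicGeometry TopologicalSpace Limits

namespace Groth.Agent.Lib.Helper5.Jou

section ToRing

variable {Y Y' : Scheme.{u}} {R S : CommRingCat.{u}}

/-- The ring map attached to a morphism into an affine scheme. -/
noncomputable def toRing (h : Y ⟶ Spec R) : R ⟶ Γ(Y, ⊤) := (Scheme.ΓSpecIso R).inv ≫ h.appTop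

lemma eq_toSpecΓ_comp (h : Y ⟶ Spec R) : h = Y.toSpecΓ ≫ Spec.map (toRing h) := by
  rw [toRing, Spec.map_comp, ← Scheme.toSpecΓ_naturality_assoc, toSpecΓ_SpecMap_ΓSpecIso_inv,
    Category.comp_id]

lemma toRing_injective {h h' : Y ⟶ Spec R} (e : toRing h = toRing h') : h = h' := by
  rw [eq_toSpecΓ_comp h, eq_toSpecΓ_comp h', e]

lemma toRing_comp (k : Y' ⟶ Y) (h : Y ⟶ Spec R) : toRing (k ≫ h) = toRing h ≫ k.appTop := by
  rw [toRing, toRing, Scheme.Hom.comp_appTop, Category.assoc]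

lemma toRing_comp_SpecMap (h : Y ⟶ Spec S) (ψ : R ⟶ S) :
    toRing (h ≫ Spec.map ψ) = ψ ≫ toRing h := by
  rw [toRing, toRing, Scheme.Hom.comp_appTop, ← Category.assoc, ← Category.assoc,
    Scheme.ΓSpecIso_inv_naturality]

lemma toRing_toSpecΓ (X : Scheme.{u}) : toRing X.toSpecΓ = 𝟙 _ := by
  rw [toRing, Scheme.toSpecΓ_appTop, Iso.inv_hom_id]

lemma toRing_toSpecΓ_comp (ψ : R ⟶ Γ(Y, ⊤)) : toRing (Y.toSpecΓ ≫ Spec.map ψ) = ψ := by
  rw [toRing_comp_SpecMap, toRing_toSpecΓ, Category.comp_id]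

end ToRing

variable (X : Scheme.{u}) [X.IsQuasiAffine]

lemma exists_family : ∃ (n : ℕ) (f : ULift.{u} (Fin n) → Γ(X, ⊤)),
    ∀ p : Spec Γ(X, ⊤), p ∈ Set.range X.toSpecΓ ↔ ∃ i, f i ∉ p.asIdeal := by
  have hc : IsCompact (Set.range X.toSpecΓ) := isCompact_range X.toSpecΓ.continuous
  have ho : IsOpen (Set.range X.toSpecΓ) := X.toSpecΓ.isOpenEmbedding.isOpen_range
  obtain ⟨t, ht⟩ := PrimeSpectrum.isCompact_isOpen_iff.mp ⟨hc, ho⟩
  refine ⟨t.card, fun i => (t.equivFin.symm i.down : t).1, fun p => ?_⟩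
  have h0 : p ∈ Set.range X.toSpecΓ ↔
      ¬ ((t : Set Γ(X, ⊤)) ⊆ ((p : PrimeSpectrum Γ(X, ⊤)).asIdeal : Set Γ(X, ⊤))) := by
    rw [← ht]; rfl
  rw [h0, Set.not_subset]
  constructor
  · rintro ⟨x, hx, hxp⟩
    refine ⟨⟨t.equivFin ⟨x, hx⟩⟩, ?_⟩
    simpa using hxp
  · rintro ⟨i, hi⟩
    exact ⟨_, (t.equivFin.symm i.down).2, hi⟩

variable {X} {σ : Type u} [Fintype σ] (f : σ → Γ(X, ⊤))

/-- The affine scheme `T`. -/
noncomputable abbrev T : Scheme.{u} := Spec (CommRingCat.of (R f))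

/-- The structure map `T ⟶ Spec Γ(X, ⊤)`. -/
noncomputable def q : T f ⟶ Spec Γ(X, ⊤) :=
  Spec.map (CommRingCat.ofHom (algebraMap Γ(X, ⊤) (R f)))

variable (hf : ∀ p : Spec Γ(X, ⊤), p ∈ Set.range X.toSpecΓ ↔ ∃ i, f i ∉ p.asIdeal)

include hf in
lemma range_q : Set.range (q f) ⊆ Set.range X.toSpecΓ := by
  rintro _ ⟨P, rfl⟩
  rw [hf]
  obtain ⟨i, hi⟩ := exists_not_mem f P.asIdeal P.isPrime.ne_top
  exact ⟨i, hi⟩

/-- The morphism `T ⟶ X`. -/
noncomputable def p : T f ⟶ X := IsOpenImmersion.lift X.toSpecΓ (q f) (range_q f hf)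

lemma p_comp : p f hf ≫ X.toSpecΓ = q f := IsOpenImmersion.lift_fac _ _ _

section Main

variable {X' : Scheme.{u}} [IsAffine X'] (g : X' ⟶ X)

include hf in
lemma span_eq_top : Ideal.span (Set.range fun i => g.appTop.hom (f i)) = ⊤ := by
  rw [← (isAffineOpen_top X').self_le_iSup_basicOpen_iff]
  intro x' _
  obtain ⟨i, hi⟩ := (hf (X.toSpecΓ (g x'))).mp ⟨_, rfl⟩
  have h1 : g x' ∈ X.toSpecΓ ⁻¹ᵁ PrimeSpectrum.basicOpen (f i) := hi
  rw [Scheme.toSpecΓ_preimage_basicOpen] at h1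
  have h2 : x' ∈ g ⁻¹ᵁ X.basicOpen (f i) := h1
  rw [Scheme.preimage_basicOpen_top] at h2
  rw [Opens.mem_iSup]
  exact ⟨⟨_, i, rfl⟩, h2⟩

include hf in
lemma exists_a : ∃ a : σ → Γ(X', ⊤), ∑ i, g.appTop.hom (f i) * a i = 1 := by
  have h := span_eq_top f hf g
  have h1 : (1 : Γ(X', ⊤)) ∈ Ideal.span (Set.range fun i => g.appTop.hom (f i)) := by
    rw [h]; trivial
  obtain ⟨c, hc⟩ := (Ideal.mem_span_range_iff_exists_fun).mp h1
  refine ⟨c, ?_⟩
  rw [← hc]
  exact Finset.sum_congr rfl fun i _ => mul_comm _ _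

variable (a : σ → Γ(X', ⊤)) (ha : ∑ i, g.appTop.hom (f i) * a i = 1)

/-- `ρ : R → Γ(P)`. -/
noncomputable def rho : R f →+* Γ(pullback g (p f hf), ⊤) :=
  (toRing (pullback.snd g (p f hf))).hom

/-- `β : Γ(X') → Γ(P)`. -/
noncomputable def beta : Γ(X', ⊤) →+* Γ(pullback g (p f hf), ⊤) :=
  (pullback.fst g (p f hf)).appTop.hom

lemma rho_beta (x : Γ(X, ⊤)) :
    rho f hf g (algebraMap Γ(X, ⊤) (R f) x) = beta f hf g (g.appTop.hom x) := by
  have h : pullback.fst g (p f hf) ≫ g ≫ X.toSpecΓ = pullback.snd g (p f hf) ≫ q f := by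
    rw [← p_comp f hf, pullback.condition_assoc]
  have h2 := congrArg toRing h
  rw [← Category.assoc, toRing_comp, toRing_toSpecΓ, Category.id_comp, q, toRing_comp_SpecMap,
    Scheme.Hom.comp_appTop] at h2
  have h3 := congrArg (fun k => k.hom x) h2
  exact h3.symm

/-- The forward map. -/
noncomputable def fwd : pullback g (p f hf) ⟶ 𝔸(σ; X') :=
  AffineSpace.homOfVector (pullback.fst g (p f hf)) (tVal f a (rho f hf g) (beta f hf g))

lemma fwd_over : fwd f hf g a ≫ (𝔸(σ; X') ↘ X') = pullback.fst g (p f hf) :=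
  AffineSpace.homOfVector_over _ _

/-- `π : Γ(X') → Γ(𝔸)`. -/
noncomputable def piA : Γ(X', ⊤) →+* Γ(𝔸(σ; X'), ⊤) := (𝔸(σ; X') ↘ X').appTop.hom

/-- The map `𝔸 ⟶ T`. -/
noncomputable def hA : 𝔸(σ; X') ⟶ T f :=
  (𝔸(σ; X')).toSpecΓ ≫ Spec.map (CommRingCat.ofHom
    (psi f g.appTop.hom a (piA (σ := σ) (X' := X')) (AffineSpace.coord X') ha))

lemma toRing_hA : toRing (hA f g a ha) = CommRingCat.ofHom
    (psi f g.appTop.hom a (piA (σ := σ) (X' := X')) (AffineSpace.coord X') ha) :=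
  toRing_toSpecΓ_comp _

lemma hA_cond : (𝔸(σ; X') ↘ X') ≫ g = hA f g a ha ≫ p f hf := by
  rw [← cancel_mono X.toSpecΓ, Category.assoc, Category.assoc, p_comp]
  apply toRing_injective
  rw [← Category.assoc, toRing_comp, toRing_toSpecΓ, Category.id_comp, q, toRing_comp_SpecMap,
    toRing_hA, Scheme.Hom.comp_appTop]
  apply CommRingCat.hom_ext
  apply RingHom.ext
  intro x
  exact (psi_algebraMap f g.appTop.hom a piA (AffineSpace.coord X') ha x).symm

/-- The backward map. -/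
noncomputable def bwd : 𝔸(σ; X') ⟶ pullback g (p f hf) :=
  pullback.lift (𝔸(σ; X') ↘ X') (hA f g a ha) (hA_cond f hf g a ha)

lemma bwd_fst : bwd f hf g a ha ≫ pullback.fst g (p f hf) = 𝔸(σ; X') ↘ X' :=
  pullback.lift_fst _ _ _

lemma bwd_snd : bwd f hf g a ha ≫ pullback.snd g (p f hf) = hA f g a ha :=
  pullback.lift_snd _ _ _

lemma fwd_appTop_comp_piA :
    (fwd f hf g a).appTop.hom.comp (piA (σ := σ) (X' := X')) = beta f hf g := by
  have h := congrArg Scheme.Hom.appTop (fwd_over f hf g a)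
  rw [Scheme.Hom.comp_appTop] at h
  exact congrArg CommRingCat.Hom.hom h

lemma bwd_appTop_comp_beta :
    (bwd f hf g a ha).appTop.hom.comp (beta f hf g) = piA (σ := σ) (X' := X') := by
  have h := congrArg Scheme.Hom.appTop (bwd_fst f hf g a ha)
  rw [Scheme.Hom.comp_appTop] at h
  exact congrArg CommRingCat.Hom.hom h

lemma bwd_appTop_comp_rho :
    (bwd f hf g a ha).appTop.hom.comp (rho f hf g)
      = psi f g.appTop.hom a (piA (σ := σ) (X' := X')) (AffineSpace.coord X') ha := by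
  have h := congrArg toRing (bwd_snd f hf g a ha)
  rw [toRing_comp, toRing_hA] at h
  exact congrArg CommRingCat.Hom.hom h

lemma fwd_bwd : fwd f hf g a ≫ bwd f hf g a ha = 𝟙 _ := by
  apply pullback.hom_ext
  · rw [Category.assoc, bwd_fst, fwd_over, Category.id_comp]
  · rw [Category.assoc, bwd_snd, Category.id_comp]
    apply toRing_injective
    rw [toRing_comp, toRing_hA]
    apply CommRingCat.hom_ext
    change (fwd f hf g a).appTop.hom.comp
      (psi f g.appTop.hom a (piA (σ := σ) (X' := X')) (AffineSpace.coord X') ha) = rho f hf g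
    rw [comp_psi, fwd_appTop_comp_piA]
    have : (fun i => (fwd f hf g a).appTop.hom (AffineSpace.coord X' i))
        = tVal f a (rho f hf g) (beta f hf g) := by
      funext i
      exact AffineSpace.homOfVector_appTop_coord _ _ i
    rw [this]
    exact psi_tVal f g.appTop.hom a (rho f hf g) (beta f hf g) (rho_beta f hf g) ha

lemma bwd_fwd : bwd f hf g a ha ≫ fwd f hf g a = 𝟙 _ := by
  apply AffineSpace.hom_ext
  · rw [Category.assoc, fwd_over, bwd_fst, Category.id_comp]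
  · intro i
    rw [Scheme.Hom.comp_appTop, Scheme.Hom.id_appTop]
    change (bwd f hf g a ha).appTop.hom ((fwd f hf g a).appTop.hom (AffineSpace.coord X' i)) = _
    have h1 : (fwd f hf g a).appTop.hom (AffineSpace.coord X' i)
        = tVal f a (rho f hf g) (beta f hf g) i :=
      AffineSpace.homOfVector_appTop_coord _ _ i
    rw [h1, map_tVal, bwd_appTop_comp_beta, bwd_appTop_comp_rho, tVal_psi]
    rfl

/-- The isomorphism. -/
noncomputable def isoA : pullback g (p f hf) ≅ 𝔸(σ; X') where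
  hom := fwd f hf g a
  inv := bwd f hf g a ha
  hom_inv_id := fwd_bwd f hf g a ha
  inv_hom_id := bwd_fwd f hf g a ha

end Main

theorem main (X : Scheme.{u}) [X.IsQuasiAffine] :
    ∃ (n : ℕ) (T : Scheme.{u}) (_ : IsAffine T) (p : T ⟶ X),
      ∀ (X' : Scheme.{u}) [IsAffine X'] (g : X' ⟶ X),
        ∃ e : Limits.pullback g p ≅ 𝔸(ULift.{u} (Fin n); X'),
          e.hom ≫ (𝔸(ULift.{u} (Fin n); X') ↘ X') = Limits.pullback.fst g p := by
  obtain ⟨n, f, hf⟩ := exists_family X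
  refine ⟨n, T f, inferInstance, p f hf, fun X' _ g => ?_⟩
  obtain ⟨a, ha⟩ := exists_a f hf g
  exact ⟨isoA f hf g a ha, fwd_over f hf g a⟩

end Groth.Agent.Lib.Helper5.Jou
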